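import Mathlib
import Groth.Agent.Lib.Helper16.RigCl14

/-!
# Helper24 — a local homomorphism of noetherian local rings inducing isomorphisms modulo all
powers of the maximal ideals is flat
-/

set_option autoImplicit false
universe u

namespace Groth.Agent.Lib.Helper24.FormIso

open IsLocalRing

variable {A B : Type u} [CommRing A] [CommRing B] [IsLocalRing A] [IsLocalRing B]
  [IsNoetherianRing A] [IsNoetherianRing B]

theorem map_maximalIdeal_eq (φ : A →+* B)
    (h : ∀ n : ℕ,
      Function.Surjective ((Ideal.Quotient.mk (maximalIdeal B ^ (n + 1))).comp φ) ∧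
      ∀ a : A, φ a ∈ maximalIdeal B ^ (n + 1) ↔ a ∈ maximalIdeal A ^ (n + 1)) :
    (maximalIdeal A).map φ = maximalIdeal B := by
  have h0 : ∀ a : A, φ a ∈ maximalIdeal B ↔ a ∈ maximalIdeal A := by
    intro a
    have := (h 0).2 a
    simpa using this
  apply le_antisymm
  · rw [Ideal.map_le_iff_le_comap]
    intro a ha
    exact (h0 a).2 ha
  · have hfg : (maximalIdeal B).FG := IsNoetherian.noetherian _
    refine Submodule.le_of_le_smul_of_le_jacobson_bot hfg
      (by rw [IsLocalRing.jacobson_eq_maximalIdeal ⊥ bot_ne_top]) ?_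
    intro b hb
    obtain ⟨a, ha⟩ := (h 1).1 (Ideal.Quotient.mk _ b)
    have h1 : φ a - b ∈ maximalIdeal B ^ 2 := by
      rw [← Ideal.Quotient.eq]
      exact ha
    have h2 : φ a ∈ maximalIdeal B := by
      have h3 : φ a - b ∈ maximalIdeal B := Ideal.pow_le_self two_ne_zero h1
      have := Ideal.add_mem _ h3 hb
      simpa using this
    have h4 : a ∈ maximalIdeal A := (h0 a).1 h2
    have h5 : b = φ a - (φ a - b) := by ring
    rw [h5]
    refine Submodule.sub_mem _ (Submodule.mem_sup_left (Ideal.mem_map_of_mem φ h4))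
      (Submodule.mem_sup_right ?_)
    rw [smul_eq_mul, ← pow_two]
    exact h1

theorem flat_of_formal_iso (φ : A →+* B)
    (h : ∀ n : ℕ,
      Function.Surjective ((Ideal.Quotient.mk (maximalIdeal B ^ (n + 1))).comp φ) ∧
      ∀ a : A, φ a ∈ maximalIdeal B ^ (n + 1) ↔ a ∈ maximalIdeal A ^ (n + 1)) :
    φ.Flat := by
  letI := φ.toAlgebra
  have hm := map_maximalIdeal_eq φ h
  change Module.Flat A B
  refine Groth.Agent.Lib.Helper16.RigCl14.flat_of_forall_flat_quotient_pow (maximalIdeal A) ?_ ?_
  · change (maximalIdeal A).map φ ≤ _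
    rw [hm, IsLocalRing.jacobson_eq_maximalIdeal ⊥ bot_ne_top]
  · intro n hn
    obtain ⟨m, rfl⟩ := Nat.exists_eq_succ_of_ne_zero hn.ne'
    have hpow : (maximalIdeal A ^ (m + 1)).map (algebraMap A B) = maximalIdeal B ^ (m + 1) := by
      change (maximalIdeal A ^ (m + 1)).map φ = _
      rw [Ideal.map_pow, hm]
    have hbij : Function.Bijective
        (algebraMap (A ⧸ maximalIdeal A ^ (m + 1))
          (B ⧸ (maximalIdeal A ^ (m + 1)).map (algebraMap A B))) := by
      constructor
      · rw [injective_iff_map_eq_zero]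
        intro x hx
        obtain ⟨a, rfl⟩ := Ideal.Quotient.mk_surjective x
        change Ideal.Quotient.mk _ (φ a) = 0 at hx
        rw [Ideal.Quotient.eq_zero_iff_mem, hpow] at hx
        rw [Ideal.Quotient.eq_zero_iff_mem]
        exact ((h m).2 a).1 hx
      · intro y
        obtain ⟨b, rfl⟩ := Ideal.Quotient.mk_surjective y
        obtain ⟨a, ha⟩ := (h m).1 (Ideal.Quotient.mk _ b)
        refine ⟨Ideal.Quotient.mk _ a, ?_⟩
        change Ideal.Quotient.mk _ (φ a) = Ideal.Quotient.mk _ b
        have h1 : φ a - b ∈ maximalIdeal B ^ (m + 1) := by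
          rw [← Ideal.Quotient.eq]; exact ha
        rw [Ideal.Quotient.eq, hpow]
        exact h1
    exact Module.Flat.of_linearEquiv
      (LinearEquiv.ofBijective (Algebra.linearMap _ _) hbij).symm

end Groth.Agent.Lib.Helper24.FormIso
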